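import Cfsg.Agent.H217.Cov7.Geo
import Cfsg.Agent.H833.RS.O73Res
import Cfsg.Agent.H781.Cov9.Res
import Cfsg.Agent.H69.OutGF

/-!
# S2499, row `Ω_7(3)`: which witnesses avoid which geometric maximal subgroups (helper217)
-/

set_option autoImplicit false
set_option linter.unusedSectionVars false

namespace Cfsg.Agent.H217.Cov7

open Module QuadraticMap Cfsg Cfsg.Geo Cfsg.Agent.LieClassical.OrthCore Cfsg.Agent.H955 Cfsg.Agent.H954.TSing
open Cfsg.Agent.LieClassical.OmegaReindex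
open Cfsg.Agent.H884.El Cfsg.Agent.H833.RS.O73
open Cfsg.Agent.H951 (fx cm Inv)
open scoped MatrixGroups Matrix commutatorElement

local notation "I7" => (Unit ⊕ (Fin 3 ⊕ Fin 3))

local notation "V7" => ((Unit ⊕ (Fin 3 ⊕ Fin 3)) → K3)

section pat

variable {F : Type} [Field F]

/-- the witness of order 14 -/
structure PB (ψ : POmega F ⇑(quadOdd 3 F) →* GL I7 F) (x : POmega F ⇑(quadOdd 3 F)) : Prop where
  ord : orderOf x = 14
  t : ∃ v, IsT (quadOdd 3 F) (ψ (x ^ 7)) v

/-- the witness of order 18 -/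
structure PZ (ψ : POmega F ⇑(quadOdd 3 F) →* GL I7 F) (x : POmega F ⇑(quadOdd 3 F)) : Prop where
  ord : orderOf x = 18
  t : ∃ v, IsT (quadOdd 3 F) (ψ (x ^ 9)) v
  line : ∀ w, quadOdd 3 F w = 1 → lin (ψ x) w ≠ w ∧ lin (ψ x) w ≠ -w

/-- the pattern of the avoided witnesses -/
def Pat (ψ : POmega F ⇑(quadOdd 3 F) →* GL I7 F) (M : Subgroup (POmega F ⇑(quadOdd 3 F))) : Prop :=
  ((∀ x ∈ M, orderOf x ≠ 13) ∧ ((∀ x ∈ M, ¬ PB ψ x) ∨ (∀ x ∈ M, orderOf x ≠ 15) ∨ (∀ x ∈ M, ¬ PZ ψ x))) ∨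
  ((∀ x ∈ M, ¬ PB ψ x) ∧ (∀ x ∈ M, orderOf x ≠ 15) ∧ (∀ x ∈ M, ¬ PZ ψ x))

end pat

section geo

variable {F : Type} [Field F] [Fintype F]

/-- a subspace invariant under `t` of dimension three is not totally singular -/
theorem ts3_t {Q : QuadraticForm F (I7 → F)} (hNT : ∀ w, Q w = -1 → NT Q w) {t : GL I7 F} {v : I7 → F}
    (ht : IsT Q t v) {W : Submodule F (I7 → F)} (hW : Inv (lin t) W) (hs : TS Q W) : finrank F W ≠ 3 := by
  refine hNT v ht.val W hs fun w hw => ?_
  by_contra hne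
  have h1 : lin t w ∈ W := hW w hw
  rw [ht.app] at h1
  have h2 : polar Q w v • v ∈ W := by
    have h3 : polar Q w v • v = -(-w - polar Q w v • v) - w := by module
    rw [h3]
    exact W.sub_mem (W.neg_mem h1) hw
  have h3 : v ∈ W := by
    have h4 := W.smul_mem (polar Q w v)⁻¹ h2
    rwa [smul_smul, inv_mul_cancel₀ hne, one_smul] at h4
  have h4 := hs v h3
  rw [ht.val] at h4
  exact one_ne_zero (neg_eq_zero.1 h4)

theorem polar_self'' {Q : QuadraticForm F (I7 → F)} (v : I7 → F) : polar Q v v = 2 * Q v := by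
  rw [polar, ← two_smul F v, QuadraticMap.map_smul, smul_eq_mul]
  ring

variable {ψ : POmega F ⇑(quadOdd 3 F) →* GL I7 F} (hF : Fintype.card F = 3) (hψ : Function.Injective ψ)
  (hr : ψ.range = omegaGL (⇑(quadOdd 3 F))) (hNT : ∀ w, quadOdd 3 F w = -1 → NT (quadOdd 3 F) w)
  (h1F : ∀ a : F, a ≠ 0 → a = 1 ∨ a = -1) {M : Subgroup (POmega F ⇑(quadOdd 3 F))}
  {W : Submodule F (I7 → F)}

include hF hψ hr hNT h1F

/-- totally singular subspaces -/
theorem pat_ts (hW : ∀ z ∈ M, Inv (lin (ψ z)) W) (hs : TS (quadOdd 3 F) W) (h0 : W ≠ ⊥) : Pat ψ M := by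
  have nQ : Nondeg (quadOdd 3 F) := nondeg_odd (two_ne hF)
  have hB : ∀ x ∈ M, ¬ PB ψ x := by
    intro x hx hb
    have hy : orderOf (x ^ 2) = 7 := by
      rw [orderOf_pow_of_dvd (by norm_num) (by rw [hb.ord]; norm_num), hb.ord]
    obtain ⟨i1, i2⟩ := iso_of_order hψ hr (pp7 hF) (by norm_num) hy
    exact ts_seven i1 nQ i2 (pp7 hF) (hW _ (M.pow_mem hx 2)) hs h0
  have hd0 : finrank F W ≠ 0 := fun h => h0 (Submodule.finrank_eq_zero.1 h)
  have hd3 : finrank F W ≤ 3 := by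
    have := two_mul_finrank_le nQ (U := W) hs
    rw [finrank_seven] at this
    omega
  by_cases h3 : finrank F W = 3
  · right
    refine ⟨hB, ?_, ?_⟩
    · intro x hx h15
      have hy : orderOf (x ^ 3) = 5 := by
        rw [orderOf_pow_of_dvd (by norm_num) (by rw [h15]; norm_num), h15]
      obtain ⟨i1, i2⟩ := iso_of_order hψ hr (pp5 hF) (by norm_num) hy
      obtain ⟨hcm, -⟩ := i1.even_case nQ i2 (pp5 hF) ⟨2, rfl⟩ (by rw [finrank_seven]; omega)
      have h1 := i1.ts_le nQ i2 (pp5 hF) hcm (hW _ (M.pow_mem hx 3)) hs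
      have h2 := i1.finrank_add
      rw [finrank_seven] at h2
      have h4 : W = fx (lin (ψ (x ^ 3))) := Submodule.eq_of_le_of_finrank_le h1 (by omega)
      refine ts_not_nondeg hs le_rfl h0 ?_
      rw [h4]
      exact nondeg_fx nQ i1.iso i1.ne0 i1.pow
    · intro x hx hz
      obtain ⟨v, hv⟩ := hz.t
      exact ts3_t hNT hv (hW _ (M.pow_mem hx 9)) hs h3
  · left
    refine ⟨?_, Or.inl hB⟩
    intro x hx h13
    obtain ⟨i1, i2⟩ := iso_of_order hψ hr (pp13 hF) (by norm_num) h13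
    obtain ⟨hcm, -⟩ := i1.odd_case nQ i2 (pp13 hF) ⟨1, rfl⟩ (by rw [finrank_seven]; omega)
    have h2 := i1.finrank_add
    rw [finrank_seven] at h2
    have h5 := i1.le_fx (pp13 hF) (hW x hx) (by omega)
    have h6 : W = fx (lin (ψ x)) := Submodule.eq_of_le_of_finrank_le h5 (by omega)
    refine ts_not_nondeg hs le_rfl h0 ?_
    rw [h6]
    exact nondeg_fx nQ i1.iso i1.ne0 i1.pow

/-- nondegenerate subspaces of even dimension -/
theorem pat_nd (hW : ∀ z ∈ M, Inv (lin (ψ z)) W) (hM15 : finrank F W = 6 → ∀ x ∈ M, orderOf x ≠ 15)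
    (hn : Nondeg (res (quadOdd 3 F) W)) (h0 : W ≠ ⊥) (he : Even (finrank F W)) : Pat ψ M := by
  have nQ : Nondeg (quadOdd 3 F) := nondeg_odd (two_ne hF)
  have hB7 : ∀ x ∈ M, PB ψ x → finrank F W = 6 ∧ ¬ IsPlus (res (quadOdd 3 F) W) := by
    intro x hx hb
    have hy : orderOf (x ^ 2) = 7 := by
      rw [orderOf_pow_of_dvd (by norm_num) (by rw [hb.ord]; norm_num), hb.ord]
    obtain ⟨i1, i2⟩ := iso_of_order hψ hr (pp7 hF) (by norm_num) hy
    have h6 := even_seven i1 nQ i2 (pp7 hF) (hW _ (M.pow_mem hx 2)) h0 he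
    refine ⟨h6, ?_⟩
    obtain ⟨hcm, hP⟩ := i1.even_case nQ i2 (pp7 hF) ⟨3, rfl⟩ (by rw [finrank_seven]; omega)
    have h2 := i1.finrank_add
    rw [finrank_seven] at h2
    rcases i1.le_or (pp7 hF) hcm (hW _ (M.pow_mem hx 2)) with h4 | h4
    · have := Submodule.finrank_mono h4
      omega
    · have h5 : cm (lin (ψ (x ^ 2))) = W := Submodule.eq_of_le_of_finrank_eq h4 (by omega)
      rwa [← h5]
  have hA13 : ∀ x ∈ M, orderOf x = 13 → finrank F W = 6 ∧ IsPlus (res (quadOdd 3 F) W) := by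
    intro x hx h13
    obtain ⟨i1, i2⟩ := iso_of_order hψ hr (pp13 hF) (by norm_num) h13
    have h6 := even_thirteen i1 nQ i2 (pp13 hF) (hW x hx) hn h0 he
    refine ⟨h6, ?_⟩
    obtain ⟨hcm, hP, -⟩ := i1.odd_case nQ i2 (pp13 hF) ⟨1, rfl⟩ (by rw [finrank_seven]; omega)
    have h2 := i1.finrank_add
    rw [finrank_seven] at h2
    obtain ⟨i, hi⟩ := i1.dvd (pp13 hF) (hW x hx)
    have h5 := H951.finrank_inf_add i1.ne0 i1.pow (hW x hx)
    have h7 : finrank F ↥(W ⊓ fx (lin (ψ x))) ≤ finrank F (fx (lin (ψ x))) := Submodule.finrank_mono inf_le_right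
    have h8 : W ⊓ cm (lin (ψ x)) = W := Submodule.eq_of_le_of_finrank_eq inf_le_left (by omega)
    have h9 : W = cm (lin (ψ x)) := Submodule.eq_of_le_of_finrank_eq (inf_eq_left.1 h8) (by omega)
    rwa [h9]
  by_cases h6 : finrank F W = 6
  · by_cases hP : IsPlus (res (quadOdd 3 F) W)
    · right
      refine ⟨fun x hx hb => (hB7 x hx hb).2 hP, hM15 h6, fun x hx hz => ?_⟩
      -- the orthogonal line
      have hiso := iso_emb hψ hr x
      have hpow : lin (ψ x) ^ 18 = 1 := by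
        rw [H781.Cov9.lin_pow, ← map_pow, ← hz.ord, pow_orderOf_eq_one, map_one, lin_one]
      have hL := H781.Cov9.inv_perp hiso (r := 18) (by norm_num) hpow (hW x hx)
      have hLd : finrank F (perp (quadOdd 3 F) W) = 1 := by
        have := finrank_add_perp nQ W
        rw [finrank_seven] at this
        omega
      have hLn := nondeg_perp nQ hn
      obtain ⟨w, hw, hw0⟩ := H781.Cov9.exists_mem_ne (W := perp (quadOdd 3 F) W) (by omega)
      have hgen : ∀ z ∈ perp (quadOdd 3 F) W, ∃ c : F, c • w = z := by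
        intro z hz
        obtain ⟨c, hc⟩ := (finrank_eq_one_iff_of_nonzero' (⟨w, hw⟩ : perp (quadOdd 3 F) W) (by
          intro h; exact hw0 (congrArg Subtype.val h))).1 hLd ⟨z, hz⟩
        exact ⟨c, congrArg Subtype.val hc⟩
      have hQw : quadOdd 3 F w ≠ 0 := by
        intro h1
        apply hw0
        refine (nondeg_res_iff (Q := quadOdd 3 F) (W := perp (quadOdd 3 F) W)).1 hLn w hw fun z hz => ?_
        obtain ⟨c, rfl⟩ := hgen z hz
        rw [polar_smul_right, polar_self'', h1]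
        simp
      obtain ⟨c, hc⟩ := hgen _ (hL w hw)
      have hc0 : c ≠ 0 := by
        rintro rfl
        rw [zero_smul] at hc
        apply hQw
        rw [← hiso w, ← hc, QuadraticMap.map_zero]
      have hQw2 : quadOdd 3 F w = -1 := by
        rcases h1F _ hQw with h1 | h1
        · exfalso
          obtain ⟨h2, h3⟩ := hz.line w h1
          rcases h1F c hc0 with h4 | h4
          · rw [h4, one_smul] at hc
            exact h2 hc.symm
          · rw [h4, neg_smul, one_smul] at hc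
            exact h3 hc.symm
        · exact h1
      obtain ⟨U, hU, hUd⟩ := hP
      refine hNT w hQw2 (U.map W.subtype) ?_ ?_ ?_
      · rintro _ ⟨u, hu, rfl⟩
        exact hU u hu
      · rintro _ ⟨u, hu, rfl⟩
        exact hw (u : I7 → F) u.2
      · have h1 := (Submodule.equivMapOfInjective W.subtype W.injective_subtype U).finrank_eq
        omega
    · left
      refine ⟨fun x hx h13 => hP (hA13 x hx h13).2, Or.inr (Or.inl (hM15 h6))⟩
  · left
    exact ⟨fun x hx h13 => h6 (hA13 x hx h13).1, Or.inl fun x hx hb => h6 (hB7 x hx hb).1⟩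

/-- frames -/
theorem pat_frame {D : Fin 7 → Submodule F (I7 → F)} (hD : IsNondegenerateMDecomposition (polar ⇑(quadOdd 3 F)) 1 D)
    (hM : ∀ x ∈ M, ψ x ∈ decompositionStabilizer D) : Pat ψ M := by
  have key : ∀ x ∈ M, ∃ σ : Equiv.Perm (Fin 7), orderOf x ∣ orderOf σ * 2 := by
    intro x hx
    obtain ⟨σ, hσ⟩ := hM x hx
    refine ⟨σ, ?_⟩
    have h5 := frame_pow hD (iso_emb hψ hr x) hσ
    have h7 : x ^ (orderOf σ * 2) = 1 := by
      by_contra hne
      apply lin_emb_ne hψ hr hne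
      rw [map_pow, lin, H251.GeoCard.toLin_pow]
      exact h5
    exact orderOf_dvd_of_pow_eq_one h7
  left
  refine ⟨?_, Or.inr (Or.inr ?_)⟩
  · intro x hx h13
    obtain ⟨σ, hσ⟩ := key x hx
    rw [h13] at hσ
    have h1 : 13 ∣ orderOf σ := (by norm_num : Nat.Prime 13).dvd_mul.1 hσ |>.resolve_right (by norm_num)
    have h2 : orderOf σ ∣ Nat.card (Equiv.Perm (Fin 7)) := orderOf_dvd_natCard σ
    rw [Nat.card_eq_fintype_card, Fintype.card_perm, Fintype.card_fin] at h2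
    have h3 := h1.trans h2
    revert h3
    decide
  · intro x hx hz
    obtain ⟨σ, hσ⟩ := key x hx
    rw [hz.ord] at hσ
    refine perm_nine (by norm_num) σ ?_
    omega

/-- the geometric maximal subgroups -/
theorem pat_geo (hM : IsCoatom M) (hpre : pre (⇑(quadOdd 3 F)) M = M.map ψ) :
    Pat ψ M ∨ InOrthogonalResidualClass (pre (⇑(quadOdd 3 F)) M) := by
  have hmax : IsMaximalIn (omegaGL ⇑(quadOdd 3 F)) (pre (⇑(quadOdd 3 F)) M) := by
    rw [hpre, ← hr]
    exact isMaximalIn_map hψ hM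
  have hmem : ∀ z ∈ M, ψ z ∈ pre (⇑(quadOdd 3 F)) M := fun z hz => by rw [hpre]; exact ⟨z, hz, rfl⟩
  have hM15 : ∀ W : Submodule F (I7 → F), finrank F W = 6 → Nondeg (res (quadOdd 3 F) W) →
      pre (⇑(quadOdd 3 F)) M ≤ subspaceStabilizer W → ∀ x ∈ M, orderOf x ≠ 15 :=
    fun W h1 h2 h3 => not_15 hF h1 h2 h3
  obtain ⟨H, hH⟩ : ∃ H, H = pre (⇑(quadOdd 3 F)) M := ⟨_, rfl⟩
  rw [← hH] at hmax hmem hM15 ⊢
  rw [coe_quadOdd] at hmax
  rcases Cfsg.Agent.S5814.result (F := F) (by rw [hF]; decide) H hmax with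
    ⟨W, hW0, hWs, hHW⟩ | ⟨W, hW0, he, hWn, -, hHW⟩ | ⟨-, D, hD, hHD⟩ | ⟨F₀, s, P, hs, hcard, -⟩ | h6
  · left
    rw [← coe_quadOdd] at hWs
    exact pat_ts hF hψ hr hNT h1F (fun z hz => inv_of_mem (by
      have := hmem z hz
      rw [hHW] at this
      exact this.1)) hWs hW0
  · left
    rw [← coe_quadOdd] at hWn
    have hn : Nondeg (res (quadOdd 3 F) W) := by
      rw [nondeg_res_iff]
      intro x hx hxy
      by_contra hx0
      obtain ⟨-, y, hy, hy1⟩ := hWn x hx hx0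
      exact hy1 (hxy y hy)
    exact pat_nd hF hψ hr hNT h1F (fun z hz => inv_of_mem (by
      have := hmem z hz
      rw [hHW] at this
      exact this.1)) (fun h => hM15 W h hn (by rw [hHW]; exact inf_le_left)) hn hW0 he
  · left
    have hD' := hD.decomp
    rw [← coe_quadOdd] at hD'
    exact pat_frame hF hψ hr hNT h1F hD' fun x hx => by
      have h4 := hmem x hx
      rw [hHD] at h4
      exact h4.1
  · exfalso
    have h4 : 2 ≤ Nat.card F₀ := Finite.one_lt_card
    have h5 : Nat.card F₀ ^ 2 ≤ Nat.card F₀ ^ s := Nat.pow_le_pow_right (by omega) hs.two_le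
    rw [← hcard, hF] at h5
    nlinarith
  · exact Or.inr h6

end geo

end Cfsg.Agent.H217.Cov7
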