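import Cfsg.Agent.H217.Cov7.Res
import Cfsg.Agent.UGT.U2.Rec.Congr

/-!
# S2499, row `Ω_7(3)`: all fields with three elements (helper217)
-/

set_option autoImplicit false

namespace Cfsg.Agent.H217.Cov7

open Cfsg Cfsg.Geo Cfsg.Agent.H278.Cov Cfsg.Agent.LieClassical.OmegaReindex
open scoped MatrixGroups

/-- **`Ω_7(3)`**, from the residual list (the statement of S5815 for `K3`) -/
theorem noTwo_of_res {F : Type} [Field F] [Fintype F] (hF : Fintype.card F = 3)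
    (hres : ∀ H : Subgroup (GL (Unit ⊕ (Fin 3 ⊕ Fin 3)) K3), IsMaximalIn (omegaGL (quadFormOdd 3 K3)) H →
      InOrthogonalResidualClass H → ∃ P : Subgroup (GL (Unit ⊕ (Fin 3 ⊕ Fin 3)) K3), IsResidualCore H P ∧
        ((Nonempty ((P ⧸ (scalars (Unit ⊕ (Fin 3 ⊕ Fin 3)) K3).subgroupOf P) ≃* alternatingGroup (Fin 9)) ∧
            Fintype.card K3 = 3) ∨
          (Nonempty ((P ⧸ (scalars (Unit ⊕ (Fin 3 ⊕ Fin 3)) K3).subgroupOf P) ≃* PSp 3 (ZMod 2)) ∧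
            (Fintype.card K3).Prime) ∨
          Nonempty ((P ⧸ (scalars (Unit ⊕ (Fin 3 ⊕ Fin 3)) K3).subgroupOf P) ≃* Cfsg.Lie.G2 K3))) :
    NoTwo (POmega F (quadFormOdd 3 F)) := by
  have h1 : NoTwo (POmega K3 (quadFormOdd 3 K3)) := by
    rw [← coe_quadOdd]
    refine noTwo_K3 fun H hH hr => ?_
    obtain ⟨P, hP, h⟩ := hres H hH hr
    refine ⟨P, hP, ?_⟩
    rcases h with ⟨h, -⟩ | ⟨h, -⟩ | h
    · exact Or.inl h
    · exact Or.inr (Or.inl h)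
    · exact Or.inr (Or.inr h)
  have σ : K3 ≃+* F := FiniteField.ringEquivOfCardEq (by rw [cK, hF])
  obtain ⟨e⟩ := Cfsg.Agent.UGT.U2.Rec.Congr.nonempty_POmegaOdd σ 3
  exact h1.congr e

end Cfsg.Agent.H217.Cov7
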