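import Cfsg.Agent.H217.Cov7.Wit
import Cfsg.Agent.H278.Cov.Defs

/-!
# S2499, row `Ω_7(3)`: the geometric maximal subgroups (helper217)
-/

set_option autoImplicit false
set_option linter.unusedSectionVars false

namespace Cfsg.Agent.H217.Cov7

open Module QuadraticMap Cfsg Cfsg.Geo Cfsg.Agent.LieClassical.OrthCore Cfsg.Agent.H955 Cfsg.Agent.H954.TSing
open Cfsg.Agent.LieClassical.OmegaReindex
open Cfsg.Agent.H884.El Cfsg.Agent.H833.RS.O73
open Cfsg.Agent.H951 (fx cm Inv)
open scoped MatrixGroups Matrix commutatorElement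

local notation "I7" => (Unit ⊕ (Fin 3 ⊕ Fin 3))

local notation "V7" => ((Unit ⊕ (Fin 3 ⊕ Fin 3)) → K3)

/-- the vector of a tuple -/
def toV (p : K3 × K3 × K3 × K3 × K3 × K3 × K3) : V7
  | Sum.inl _ => p.1
  | Sum.inr (Sum.inl i) => match i with
    | 0 => p.2.1
    | 1 => p.2.2.1
    | 2 => p.2.2.2.1
  | Sum.inr (Sum.inr i) => match i with
    | 0 => p.2.2.2.2.1
    | 1 => p.2.2.2.2.2.1
    | 2 => p.2.2.2.2.2.2

theorem toV_surj (w : V7) : ∃ p, toV p = w := by
  refine ⟨(w (Sum.inl ()), w (Sum.inr (Sum.inl 0)), w (Sum.inr (Sum.inl 1)), w (Sum.inr (Sum.inl 2)),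
    w (Sum.inr (Sum.inr 0)), w (Sum.inr (Sum.inr 1)), w (Sum.inr (Sum.inr 2))), ?_⟩
  funext i
  rcases i with i | i | i
  · rfl
  · fin_cases i <;> rfl
  · fin_cases i <;> rfl

def LZ : List (List ℕ) := mulL LU LT

theorem zchk : ∀ p : K3 × K3 × K3 × K3 × K3 × K3 × K3, quadFormOdd 3 K3 (toV p) = 1 →
    (mk7 LZ *ᵥ toV p ≠ toV p ∧ mk7 LZ *ᵥ toV p ≠ - toV p) := by
  decide +kernel

theorem xchk : mk7 LX *ᵥ v0 = v0 := by
  have h : ∀ p : I7 × Unit, (mk7 LX *ᵥ v0) p.1 = v0 p.1 := by decide +kernel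
  funext i
  exact h (i, ())

/-- the form -/
abbrev QQ : QuadraticForm K3 V7 := quadOdd 3 K3

theorem cK : Fintype.card K3 = 3 := by decide

theorem nQ : Nondeg QQ := nondeg_odd (by decide)

theorem nondeg_ne {w : V7} (hw : QQ w ≠ 0) : w ≠ 0 := by
  rintro rfl
  exact hw (QuadraticMap.map_zero _)

/-- no totally singular subspace of dimension three is orthogonal to `w` -/
def NT {F : Type} [Field F] (Q : QuadraticForm F (I7 → F)) (w : I7 → F) : Prop :=
  ∀ U : Submodule F (I7 → F), TS Q U → (∀ u ∈ U, polar Q u w = 0) → finrank F U ≠ 3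

theorem isoX : Iso QQ (lin gX) 7 ∧ lin gX ≠ 1 := by
  refine ⟨Iso.mk' (pp7 cK) (by norm_num) ?_ (lin_iso (H := isometryGroup K3 (⇑QQ)) le_rfl (iX.mem gX_val)),
    lin_ne_one gX_ne⟩
  rw [H781.Cov9.lin_pow, gX_pow, lin_one]

theorem nt_seven {F : Type} [Field F] [Fintype F] (hF : Fintype.card F = 3) {Q : QuadraticForm F (I7 → F)}
    (nQ : Nondeg Q) {x : Module.End F (I7 → F)} (h1 : Iso Q x 7) (h2 : x ≠ 1) {v : I7 → F} (hv0 : v ≠ 0)
    (hxv : x v = v) : NT Q v := by
  intro U hU hv h3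
  obtain ⟨hcm, hP⟩ := h1.even_case nQ h2 (pp7 hF) ⟨3, rfl⟩ (by rw [finrank_seven]; omega)
  have hadd := h1.finrank_add
  rw [finrank_seven] at hadd
  have hfx : fx x = Submodule.span F {v} := by
    symm
    refine Submodule.eq_of_le_of_finrank_eq ((Submodule.span_singleton_le_iff_mem _ _).2 (H951.mem_fx.2 hxv)) ?_
    rw [finrank_span_singleton hv0]; omega
  have hle : U ≤ cm x := by
    rw [← perp_fx nQ h1.iso h1.ne0 h1.pow, hfx]
    intro u hu w hw
    obtain ⟨c, rfl⟩ := Submodule.mem_span_singleton.1 hw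
    rw [polar_smul_left, polar_comm, hv u hu, smul_zero]
  have h4 := ts_lt_half (nondeg_cm nQ h1.iso h1.ne0 h1.pow) hle hU ⟨3, by omega⟩ hP
  omega

theorem nt_v0 : NT QQ v0 :=
  nt_seven cK nQ isoX.1 isoX.2 isT.ne_zero (by rw [H781.Cov9.lin_apply, gX_val, xchk])

/-- the reflection -/
def refl (d : V7) : V7 →ₗ[K3] V7 where
  toFun := fun x => x - (polar QQ x d * (QQ d)⁻¹) • d
  map_add' := fun x y => by rw [polar_add_left]; module
  map_smul' := fun c x => by
    rw [polar_smul_left, RingHom.id_apply, smul_eq_mul]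
    module

theorem refl_apply (d x : V7) : refl d x = x - (polar QQ x d * (QQ d)⁻¹) • d := rfl

theorem refl_refl {d : V7} (hd : QQ d ≠ 0) (x : V7) : refl d (refl d x) = x := by
  have h1 : polar QQ d d * (QQ d)⁻¹ = 2 := by rw [polar_self', mul_assoc, mul_inv_cancel₀ hd, mul_one]
  rw [refl_apply, refl_apply, polar_sub_left, polar_smul_left, sub_mul, smul_eq_mul, mul_assoc _ (polar QQ d d), h1]
  module

theorem refl_polar {d : V7} (hd : QQ d ≠ 0) (x y : V7) : polar QQ (refl d x) (refl d y) = polar QQ x y := by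
  have h1 : polar QQ d d = 2 * QQ d := polar_self' d
  rw [refl_apply, refl_apply, polar_sub_left, polar_sub_right, polar_sub_right, polar_smul_left, polar_smul_right,
    polar_smul_left, polar_smul_right, h1, polar_comm QQ d y]
  simp only [smul_eq_mul]
  field_simp
  ring

theorem refl_Q {d : V7} (hd : QQ d ≠ 0) (x : V7) : QQ (refl d x) = QQ x := by
  have h1 := refl_polar hd x x
  rw [polar_self', polar_self'] at h1
  exact mul_left_cancel₀ (by decide) h1

theorem nt_of {w : V7} (hw : QQ w = -1) : NT QQ w := by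
  intro U hU hv h3
  have hv0 : QQ v0 = -1 := isT.val
  obtain ⟨d, ε, hd, hε, hdw⟩ : ∃ (d : V7) (ε : K3), QQ d ≠ 0 ∧ ε ≠ 0 ∧ refl d w = ε • v0 := by
    have hsub : QQ (w - v0) = QQ w + QQ v0 - polar QQ w v0 := by
      rw [sub_eq_add_neg, QuadraticMap.map_add (⇑QQ), QuadraticMap.map_neg, polar_neg_right]
      ring
    have hadd : QQ (w + v0) = QQ w + QQ v0 + polar QQ w v0 := QuadraticMap.map_add _ _ _
    by_cases h : QQ (w - v0) = 0
    · have hp : polar QQ w v0 = QQ w + QQ v0 := by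
        rw [hsub] at h
        linear_combination -h
      have h4 : QQ (w + v0) = QQ w + QQ v0 + (QQ w + QQ v0) := by rw [hadd, hp]
      have h5 : QQ (w + v0) ≠ 0 := by
        rw [h4, hw, hv0]; decide
      refine ⟨w + v0, -1, h5, by decide, ?_⟩
      have h6 : polar QQ w (w + v0) = QQ (w + v0) := by
        rw [polar_add_right, polar_self', hp, h4, hw, hv0]
        decide
      rw [refl_apply, h6, mul_inv_cancel₀ h5, one_smul]
      module
    · refine ⟨w - v0, 1, h, one_ne_zero, ?_⟩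
      have h6 : polar QQ w (w - v0) = QQ (w - v0) := by
        rw [polar_sub_right, polar_self', hsub, hw, hv0]
        ring
      rw [refl_apply, h6, mul_inv_cancel₀ h, one_smul, one_smul]
      module
  have hinj : Function.Injective (refl d) := fun x y hxy => by
    rw [← refl_refl hd x, hxy, refl_refl hd y]
  refine nt_v0 (U.map (refl d)) ?_ ?_ ?_
  · rintro _ ⟨u, hu, rfl⟩
    rw [refl_Q hd]
    exact hU u hu
  · rintro _ ⟨u, hu, rfl⟩
    have h1 := refl_polar hd u w
    rw [hdw, polar_smul_right, hv u hu, smul_eq_mul] at h1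
    exact (mul_eq_zero.1 h1).resolve_left hε
  · exact (Submodule.equivMapOfInjective _ hinj U).finrank_eq.symm.trans h3

theorem dec1 : ∀ a : K3, a ≠ 0 → a = 1 ∨ a = -1 := by decide

theorem dec3 : (2 : K3) ≠ 0 := by decide

end Cfsg.Agent.H217.Cov7
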