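import Cfsg.Agent.H217.Cov7.Cls

/-!
# S2499, row `Ω_7(3)`: the residual maximal subgroups, `NoTwo` (helper217)
-/

set_option autoImplicit false
set_option linter.unusedSectionVars false

namespace Cfsg.Agent.H217.Cov7

open Module QuadraticMap Cfsg Cfsg.Geo Cfsg.Agent.LieClassical.OrthCore Cfsg.Agent.H955 Cfsg.Agent.H954.TSing
open Cfsg.Agent.LieClassical.OmegaReindex
open Cfsg.Agent.H884.El Cfsg.Agent.H833.RS.O73 Cfsg.Agent.H278.Cov
open scoped MatrixGroups Matrix commutatorElement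

local notation "I7" => (Unit ⊕ (Fin 3 ⊕ Fin 3))

theorem card_realised {F : Type} [Field F] : Nat.card ↥(H70.OutCount.realised H69.OutGF.hG2 F) ∣ 2 := by
  have h : Nat.card (Equiv.Perm (Fin Cfsg.Lie.chevG2.rank)) = 2 := by
    have h2 : Nat.card (Equiv.Perm (Fin 2)) = 2 := by
      rw [Nat.card_eq_fintype_card]; rfl
    exact h2
  rw [← h]
  exact Subgroup.card_subgroup_dvd_card _

theorem card_ringAut : Nat.card (K3 ≃+* K3) = 1 := by
  have : Subsingleton (K3 ≃+* K3) := by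
    have h : Subsingleton (ZMod 3 ≃+* ZMod 3) := inferInstance
    exact h
  rw [Nat.card_eq_one_iff_unique]
  exact ⟨this, ⟨RingEquiv.refl K3⟩⟩

/-- the residual class -/
theorem pat_res {ψ : POmega K3 ⇑(quadOdd 3 K3) →* GL I7 K3} (hψ : Function.Injective ψ)
    (hr : ψ.range = omegaGL (⇑(quadOdd 3 K3))) {M : Subgroup (POmega K3 ⇑(quadOdd 3 K3))}
    {P : Subgroup (GL I7 K3)} (hH : pre (⇑(quadOdd 3 K3)) M = M.map ψ)
    (hcore : IsResidualCore (pre (⇑(quadOdd 3 K3)) M) P)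
    (hcases : (Nonempty ((P ⧸ (scalars I7 K3).subgroupOf P) ≃* alternatingGroup (Fin 9))) ∨
      (Nonempty ((P ⧸ (scalars I7 K3).subgroupOf P) ≃* PSp 3 (ZMod 2))) ∨
      Nonempty ((P ⧸ (scalars I7 K3).subgroupOf P) ≃* Cfsg.Lie.G2 K3)) : Pat ψ M := by
  have hfin : Finite (POmega K3 ⇑(quadOdd 3 K3)) := Quotient.finite _
  have hfM : Finite M := inferInstance
  obtain ⟨S, hSn, hSs, hna, hC, ⟨e⟩⟩ := H264.FKS.exists_res_omega (Q := quadOdd 3 K3) (quadOdd_nondegenerate dec3)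
    (by rw [H884.El.card_odd]; norm_num) (quadOdd_isotropic (by norm_num)) hcore
  have hdvd := H264.FKS.dvd_aut S hC
  have hord : ∀ (x : POmega K3 ⇑(quadOdd 3 K3)) (hx : x ∈ M) (n : ℕ), (∀ y : M, orderOf y ≠ n) → orderOf x ≠ n := by
    intro x hx n h h1
    exact h ⟨x, hx⟩ (by rw [Subgroup.orderOf_mk, h1])
  have hpr : ∀ n : ℕ, ¬ n ∣ Nat.card (MulAut S) → ∀ x ∈ M, orderOf x ≠ n := by
    intro n hn x hx h1
    apply hn
    refine dvd_trans ?_ hdvd
    rw [← h1, ← Subgroup.orderOf_mk x hx]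
    exact orderOf_dvd_natCard _
  rcases hcases with ⟨⟨f⟩⟩ | ⟨⟨f⟩⟩ | hG
  · left
    refine ⟨hpr 13 ?_, Or.inr (Or.inr fun x hx hz => ?_)⟩
    · intro h
      rw [H781.Cov9.card_mulAut_congr (e.trans f)] at h
      have h2 := h.trans (H781.Cov9.card_mulAut_alt 9 (by norm_num))
      revert h2
      decide
    · exact hord x hx 18 (fun y => alt_ne hC (n := 9) (by norm_num) (by norm_num) (by norm_num) (e.trans f) y) hz.ord
  · left
    have h2 : Fintype.card (ZMod 2) = 2 := ZMod.card 2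
    have haut : Nat.card (MulAut S) = 1451520 := by
      rw [H781.Cov9.card_mulAut_congr (e.trans f), aut_psp32 h2]
    refine ⟨hpr 13 ?_, Or.inl fun x hx hb => ?_⟩
    · rw [haut]; norm_num
    · refine hord x hx 14 (fun y => ne_of_index (S := S) (fun g => ?_) ?_ y) hb.ord
      · rw [← MulEquiv.orderOf_eq (e.trans f)]
        exact psp32_ne h2 _
      · have h1 := hdvd
        rw [haut, ← card_psp32 h2, ← Nat.card_congr (e.trans f).toEquiv, ← S.card_mul_index] at h1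
        have h2 : S.index ∣ 1 := by
          refine Nat.dvd_of_mul_dvd_mul_left (Nat.card_pos (α := S)) ?_
          rwa [mul_one]
        rw [Nat.dvd_one.1 h2]
        exact Nat.coprime_one_right _
  · right
    have hiso : ∀ g ∈ pre (⇑(quadOdd 3 K3)) M, ∀ x, quadOdd 3 K3 (lin g x) = quadOdd 3 K3 x :=
      fun g hg x => lin_iso (H := pre (⇑(quadOdd 3 K3)) M) pre_le hg x
    have hmem : ∀ z ∈ M, ψ z ∈ pre (⇑(quadOdd 3 K3)) M := fun z hz => by rw [hH]; exact ⟨z, hz, rfl⟩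
    refine ⟨fun x hx hb => ?_, hpr 15 ?_, fun x hx hz => ?_⟩
    · obtain ⟨v, hv⟩ := hb.t
      exact no_t nQ hiso hcore hG hv (hmem _ (M.pow_mem hx 7))
    · obtain ⟨f⟩ := hG
      obtain ⟨f'⟩ := Cfsg.Agent.H638.G2Iso.equiv (F := K3)
      have hcS : Nat.card S = 4245696 := by
        rw [Nat.card_congr ((e.trans f).trans f').toEquiv, Cfsg.Agent.S1059.result (F := K3) cK]
        norm_num
      have hout : Nat.card (Cfsg.Out S) ∣ 2 := by
        rw [H934.OutB.card_out_congr ((e.trans f).trans f'), H69.OutGF.card_out_G2 (F := K3)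
          (by rw [Nat.card_eq_fintype_card, cK]), card_ringAut, mul_one]
        exact card_realised
      rw [← H934.OutB.card_out_mul S hna, hcS]
      intro h
      have h5 : 5 ∣ Nat.card (Cfsg.Out S) * 4245696 := (by norm_num : 5 ∣ 15).trans h
      have h6 : 5 ∣ 2 * 4245696 := h5.trans (Nat.mul_dvd_mul_right hout _)
      revert h6
      norm_num
    · obtain ⟨v, hv⟩ := hz.t
      exact no_t nQ hiso hcore hG hv (hmem _ (M.pow_mem hx 9))

/-- the residual list in the needed form -/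
def ResHyp : Prop := ∀ H : Subgroup (GL I7 K3), IsMaximalIn (omegaGL (quadFormOdd 3 K3)) H →
  InOrthogonalResidualClass H → ∃ P : Subgroup (GL I7 K3), IsResidualCore H P ∧
    ((Nonempty ((P ⧸ (scalars I7 K3).subgroupOf P) ≃* alternatingGroup (Fin 9))) ∨
      (Nonempty ((P ⧸ (scalars I7 K3).subgroupOf P) ≃* PSp 3 (ZMod 2))) ∨
      Nonempty ((P ⧸ (scalars I7 K3).subgroupOf P) ≃* Cfsg.Lie.G2 K3))

theorem lin_conj_apply {ψ : POmega K3 ⇑(quadOdd 3 K3) →* GL I7 K3} (g x : POmega K3 ⇑(quadOdd 3 K3)) (w : I7 → K3) :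
    lin (ψ (g * x * g⁻¹)) (lin (ψ g) w) = lin (ψ g) (lin (ψ x) w) := by
  rw [map_mul, map_mul, map_inv, H781.Cov9.lin_mul_apply, H781.Cov9.lin_mul_apply, H781.Cov9.lin_inv_apply]

theorem PB.conj {ψ : POmega K3 ⇑(quadOdd 3 K3) →* GL I7 K3} (hiso : ∀ g x, quadOdd 3 K3 (lin (ψ g) x) = quadOdd 3 K3 x)
    {x : POmega K3 ⇑(quadOdd 3 K3)} (h : PB ψ x) (g : POmega K3 ⇑(quadOdd 3 K3)) : PB ψ (g * x * g⁻¹) := by
  refine ⟨?_, ?_⟩
  · have h1 : orderOf ((MulAut.conj g) x) = orderOf x := MulEquiv.orderOf_eq (MulAut.conj g) x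
    rw [← h.ord, ← h1]
    rfl
  · obtain ⟨v, hv⟩ := h.t
    refine ⟨lin (ψ g) v, ?_⟩
    rw [conj_pow, map_mul, map_mul, map_inv]
    exact hv.conj (hiso g)

theorem PZ.conj {ψ : POmega K3 ⇑(quadOdd 3 K3) →* GL I7 K3} (hiso : ∀ g x, quadOdd 3 K3 (lin (ψ g) x) = quadOdd 3 K3 x)
    {x : POmega K3 ⇑(quadOdd 3 K3)} (h : PZ ψ x) (g : POmega K3 ⇑(quadOdd 3 K3)) : PZ ψ (g * x * g⁻¹) := by
  refine ⟨?_, ?_, ?_⟩
  · have h1 : orderOf ((MulAut.conj g) x) = orderOf x := MulEquiv.orderOf_eq (MulAut.conj g) x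
    rw [← h.ord, ← h1]
    rfl
  · obtain ⟨v, hv⟩ := h.t
    refine ⟨lin (ψ g) v, ?_⟩
    rw [conj_pow, map_mul, map_mul, map_inv]
    exact hv.conj (hiso g)
  · intro w hw
    obtain ⟨w', rfl⟩ : ∃ w', lin (ψ g) w' = w := ⟨lin (ψ g)⁻¹ w, H781.Cov9.lin_inv_apply' (ψ g) w⟩
    rw [hiso] at hw
    obtain ⟨h1, h2⟩ := h.line w' hw
    rw [lin_conj_apply, ← map_neg]
    have hinj : Function.Injective (lin (ψ g)) := fun a b hab => by
      rw [← H781.Cov9.lin_inv_apply (ψ g) a, hab, H781.Cov9.lin_inv_apply]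
    exact ⟨fun h3 => h1 (hinj h3), fun h3 => h2 (hinj h3)⟩

theorem ord_conj {G : Type*} [Group G] (g x : G) : orderOf (g * x * g⁻¹) = orderOf x :=
  MulEquiv.orderOf_eq (MulAut.conj g) x

/-- **`Ω_7(3)`** -/
theorem noTwo_K3 (hres : ResHyp) : NoTwo (POmega K3 ⇑(quadOdd 3 K3)) := by
  have hfin : Finite (POmega K3 ⇑(quadOdd 3 K3)) := Quotient.finite _
  obtain ⟨ψ, hψ, hr, hpre⟩ := exists_emb (F := K3) (two_ne cK)
  have hiso : ∀ g x, quadOdd 3 K3 (lin (ψ g) x) = quadOdd 3 K3 x := fun g x => iso_emb hψ hr g x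
  have hpat : ∀ M : Subgroup (POmega K3 ⇑(quadOdd 3 K3)), IsCoatom M → Pat ψ M := by
    intro M hM
    rcases pat_geo cK hψ hr (fun w hw => nt_of hw) dec1 hM (hpre M) with h | h
    · exact h
    · have hmax : IsMaximalIn (omegaGL (quadFormOdd 3 K3)) (pre (⇑(quadOdd 3 K3)) M) := by
        rw [← coe_quadOdd, hpre, ← hr]
        exact isMaximalIn_map hψ hM
      obtain ⟨P, hP, hc⟩ := hres _ hmax h
      exact pat_res hψ hr (hpre M) hP hc
  -- the elements
  have hget : ∀ m ∈ omegaGL (⇑(quadOdd 3 K3)), ∃ x, ψ x = m := by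
    intro m hm
    rw [← hr] at hm
    exact hm
  obtain ⟨T, hT⟩ := hget _ gT_mem
  obtain ⟨X, hX⟩ := hget _ gX_mem
  obtain ⟨U, hU⟩ := hget _ gU_mem
  obtain ⟨C, hC⟩ := hget _ gC_mem
  have hTT : T ^ 2 = 1 := by
    apply hψ
    rw [map_pow, hT, map_one, pow_two, isT.sq]
  have hTord : orderOf T = 2 := by
    apply orderOf_eq_prime hTT
    intro h
    rw [h, map_one] at hT
    exact gT_ne hT.symm
  have hX7 : X ^ 7 = 1 := by
    apply hψ
    rw [map_pow, hX, map_one, gX_pow]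
  have h7 : Fact (Nat.Prime 7) := ⟨by norm_num⟩
  have hXord : orderOf X = 7 := by
    apply orderOf_eq_prime hX7
    intro h
    rw [h, map_one] at hX
    exact gX_ne hX.symm
  have hU9 : U ^ 9 = 1 := by
    apply hψ
    rw [map_pow, hU, map_one, gU_pow]
  have hUord : orderOf U = 9 := by
    have h1 : orderOf U = 3 ^ (1 + 1) := by
      apply orderOf_eq_prime_pow
      · intro h
        have h2 := congrArg ψ h
        rw [map_pow, hU, map_one] at h2
        exact gU_cube h2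
      · exact hU9
    rw [h1]
    norm_num
  have hCord : orderOf C = 15 := by
    have h1 : orderOf C ∣ 15 := by
      apply orderOf_dvd_of_pow_eq_one
      apply hψ
      rw [map_pow, hC, map_one, gC_pow]
    have h3 : ¬ orderOf C ∣ 3 := by
      intro h
      have h2 := congrArg ψ (orderOf_dvd_iff_pow_eq_one.1 h)
      rw [map_pow, hC, map_one] at h2
      exact gC_cube h2
    have h5 : ¬ orderOf C ∣ 5 := by
      intro h
      have h2 := congrArg ψ (orderOf_dvd_iff_pow_eq_one.1 h)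
      rw [map_pow, hC, map_one] at h2
      exact gC_five h2
    have h4 : orderOf C ≤ 15 := Nat.le_of_dvd (by norm_num) h1
    generalize orderOf C = n at *
    interval_cases n <;> revert h1 h3 h5 <;> decide
  have cTX : Commute T X := by
    apply hψ
    rw [map_mul, map_mul, hT, hX, comm_tx]
  have cTU : Commute T U := by
    apply hψ
    rw [map_mul, map_mul, hT, hU, comm_tu]
  have hb : PB ψ (T * X) := by
    refine ⟨?_, v0, ?_⟩
    · rw [cTX.orderOf_mul_eq_mul_orderOf_of_coprime (by rw [hTord, hXord]; norm_num), hTord, hXord]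
    · rw [cTX.mul_pow, hX7, mul_one, show 7 = 2 * 3 + 1 from rfl, pow_succ, pow_mul, hTT, one_pow, one_mul, hT]
      exact isT
  have hz : PZ ψ (T * U) := by
    refine ⟨?_, ⟨v0, ?_⟩, ?_⟩
    · rw [cTU.orderOf_mul_eq_mul_orderOf_of_coprime (by rw [hTord, hUord]; norm_num), hTord, hUord]
    · rw [cTU.mul_pow, hU9, mul_one, show 9 = 2 * 4 + 1 from rfl, pow_succ, pow_mul, hTT, one_pow, one_mul, hT]
      exact isT
    · intro w hw
      obtain ⟨p, rfl⟩ := toV_surj w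
      rw [coe_quadOdd] at hw
      have h1 := zchk p hw
      rw [map_mul, hT, hU, H781.Cov9.lin_apply, Units.val_mul, gT_val, gU_val, tu.eq]
      exact h1
  obtain ⟨A, hA⟩ : ∃ A : POmega K3 ⇑(quadOdd 3 K3), orderOf A = 13 := by
    have h13 : Fact (Nat.Prime 13) := ⟨by norm_num⟩
    exact exists_prime_orderOf_dvd_card' 13 (by rw [card_T cK]; norm_num)
  -- the pattern
  have key : ∀ M : Subgroup (POmega K3 ⇑(quadOdd 3 K3)), M ≠ ⊤ →
      (Av A M ∧ (Av (T * X) M ∨ Av C M ∨ Av (T * U) M)) ∨ (Av (T * X) M ∧ Av C M ∧ Av (T * U) M) := by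
    intro M hM
    obtain ⟨M', h1, h2⟩ := (eq_top_or_exists_le_coatom M).resolve_left hM
    have a1 : (∀ x ∈ M', orderOf x ≠ 13) → Av A M := fun h g hg => h _ (h2 hg) (by rw [ord_conj, hA])
    have a2 : (∀ x ∈ M', orderOf x ≠ 15) → Av C M := fun h g hg => h _ (h2 hg) (by rw [ord_conj, hCord])
    have a3 : (∀ x ∈ M', ¬ PB ψ x) → Av (T * X) M := fun h g hg => h _ (h2 hg) (hb.conj hiso g)
    have a4 : (∀ x ∈ M', ¬ PZ ψ x) → Av (T * U) M := fun h g hg => h _ (h2 hg) (hz.conj hiso g)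
    rcases hpat M' h1 with ⟨h3, h4 | h4 | h4⟩ | ⟨h3, h4, h5⟩
    · exact Or.inl ⟨a1 h3, Or.inl (a3 h4)⟩
    · exact Or.inl ⟨a1 h3, Or.inr (Or.inl (a2 h4))⟩
    · exact Or.inl ⟨a1 h3, Or.inr (Or.inr (a4 h4))⟩
    · exact Or.inr ⟨a3 h3, a2 h4, a4 h5⟩
  intro H K hH hK
  rcases key H hH with ⟨h1, h2⟩ | ⟨h1, h2, h3⟩
  · rcases key K hK with ⟨k1, -⟩ | ⟨k1, k2, k3⟩
    · exact ⟨A, h1, k1⟩
    · rcases h2 with h2 | h2 | h2
      · exact ⟨_, h2, k1⟩
      · exact ⟨_, h2, k2⟩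
      · exact ⟨_, h2, k3⟩
  · rcases key K hK with ⟨-, k2 | k2 | k2⟩ | ⟨k1, -, -⟩
    · exact ⟨_, h1, k2⟩
    · exact ⟨_, h2, k2⟩
    · exact ⟨_, h3, k2⟩
    · exact ⟨_, h1, k1⟩

end Cfsg.Agent.H217.Cov7
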