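import Cfsg.Agent.H217.Cov7.NoT
import Cfsg.Agent.H833.RS.O73Geo
import Cfsg.Agent.H957.Bridge

/-!
# S2499, row `Ω_7(3)`: the witnesses of order 14 and 18 (helper217)
-/

set_option autoImplicit false
set_option linter.unusedSectionVars false

namespace Cfsg.Agent.H217.Cov7

open Module QuadraticMap Cfsg Cfsg.Geo Cfsg.Agent.LieClassical.OrthCore Cfsg.Agent.H955 Cfsg.Agent.H954.TSing
open Cfsg.Agent.LieClassical.OmegaReindex
open Cfsg.Agent.H884.El
open scoped MatrixGroups Matrix commutatorElement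

local notation "I7" => (Unit ⊕ (Fin 3 ⊕ Fin 3))

local notation "V7" => ((Unit ⊕ (Fin 3 ⊕ Fin 3)) → K3)

def idx : I7 → ℕ
  | Sum.inl _ => 0
  | Sum.inr (Sum.inl i) => 1 + i.val
  | Sum.inr (Sum.inr i) => 4 + i.val

/-- the matrix of a list of rows -/
def mk7 (l : List (List ℕ)) : Matrix I7 I7 K3 := fun i j => (((l.getD (idx i) []).getD (idx j) 0 : ℕ) : K3)

/-- the product of two lists of rows -/
def mulL (a b : List (List ℕ)) : List (List ℕ) :=
  a.map fun r => (List.range 7).map fun j =>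
    ((List.range 7).foldl (fun s k => s + r.getD k 0 * (b.getD k []).getD j 0) 0) % 3

def LI : List (List ℕ) := [[1, 0, 0, 0, 0, 0, 0], [0, 1, 0, 0, 0, 0, 0], [0, 0, 1, 0, 0, 0, 0], [0, 0, 0, 1, 0, 0, 0],
  [0, 0, 0, 0, 1, 0, 0], [0, 0, 0, 0, 0, 1, 0], [0, 0, 0, 0, 0, 0, 1]]
def LT : List (List ℕ) := [[2, 0, 0, 0, 0, 0, 0], [0, 0, 0, 0, 2, 0, 0], [0, 0, 2, 0, 0, 0, 0], [0, 0, 0, 2, 0, 0, 0],
  [0, 2, 0, 0, 0, 0, 0], [0, 0, 0, 0, 0, 2, 0], [0, 0, 0, 0, 0, 0, 2]]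
def LG : List (List ℕ) := [[2, 0, 0, 0, 0, 0, 0], [0, 1, 0, 0, 0, 0, 0], [0, 0, 2, 0, 0, 0, 0], [0, 0, 0, 1, 0, 0, 0],
  [0, 0, 0, 0, 1, 0, 0], [0, 0, 0, 0, 0, 2, 0], [0, 0, 0, 0, 0, 0, 1]]
def LH : List (List ℕ) := [[0, 1, 0, 0, 1, 0, 0], [2, 2, 0, 0, 1, 0, 0], [0, 0, 0, 2, 0, 0, 0], [0, 0, 2, 0, 0, 0, 0],
  [2, 1, 0, 0, 2, 0, 0], [0, 0, 0, 0, 0, 0, 2], [0, 0, 0, 0, 0, 2, 0]]
def LX : List (List ℕ) := [[2, 0, 1, 1, 0, 1, 2], [2, 2, 2, 0, 1, 0, 2], [0, 1, 0, 1, 1, 2, 2], [2, 0, 2, 2, 0, 0, 1],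
  [2, 1, 2, 0, 2, 0, 2], [2, 1, 2, 1, 1, 1, 2], [1, 2, 2, 2, 2, 2, 0]]
def LU : List (List ℕ) := [[2, 2, 1, 2, 2, 0, 1], [0, 2, 2, 1, 1, 0, 1], [1, 1, 0, 2, 1, 1, 2], [0, 2, 2, 2, 2, 0, 1],
  [0, 1, 2, 1, 2, 0, 1], [0, 2, 0, 2, 2, 0, 1], [1, 2, 2, 0, 2, 2, 2]]
/-- the Gram matrix -/
def LP : List (List ℕ) := [[2, 0, 0, 0, 0, 0, 0], [0, 0, 0, 0, 1, 0, 0], [0, 0, 0, 0, 0, 1, 0], [0, 0, 0, 0, 0, 0, 1],
  [0, 1, 0, 0, 0, 0, 0], [0, 0, 1, 0, 0, 0, 0], [0, 0, 0, 1, 0, 0, 0]]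

def MulOk (a b c : List (List ℕ)) : Prop := ∀ p : I7 × I7, (mk7 a * mk7 b) p.1 p.2 = mk7 c p.1 p.2

theorem MulOk.eq {a b c : List (List ℕ)} (h : MulOk a b c) : mk7 a * mk7 b = mk7 c := by
  ext i j
  exact h (i, j)

theorem mk_one : mk7 LI = 1 := by
  have h : ∀ p : I7 × I7, mk7 LI p.1 p.2 = (1 : Matrix I7 I7 K3) p.1 p.2 := by decide +kernel
  ext i j
  exact h (i, j)

/-- a group element -/
def unit7 (a b : List (List ℕ)) (h1 : MulOk a b LI) (h2 : MulOk b a LI) : GL I7 K3 :=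
  ⟨mk7 a, mk7 b, by rw [h1.eq, mk_one], by rw [h2.eq, mk_one]⟩

def LX2 := mulL LX LX
def LX4 := mulL LX2 LX2
def LX6 := mulL LX4 LX2
def LU2 := mulL LU LU
def LU3 := mulL LU2 LU
def LU6 := mulL LU3 LU3
def LU8 := mulL LU6 LU2
def LF := mulL LG LH

theorem gg : MulOk LG LG LI := by unfold MulOk; decide +kernel
theorem hh : MulOk LH LH LI := by unfold MulOk; decide +kernel
theorem tt : MulOk LT LT LI := by unfold MulOk; decide +kernel
theorem gh : MulOk LG LH LF := by unfold MulOk; decide +kernel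
theorem ff : MulOk LF LF LT := by unfold MulOk; decide +kernel
theorem xx : MulOk LX LX LX2 := by unfold MulOk; decide +kernel
theorem x22 : MulOk LX2 LX2 LX4 := by unfold MulOk; decide +kernel
theorem x42 : MulOk LX4 LX2 LX6 := by unfold MulOk; decide +kernel
theorem x61 : MulOk LX6 LX LI := by unfold MulOk; decide +kernel
theorem x16 : MulOk LX LX6 LI := by unfold MulOk; decide +kernel
theorem uu : MulOk LU LU LU2 := by unfold MulOk; decide +kernel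
theorem u21 : MulOk LU2 LU LU3 := by unfold MulOk; decide +kernel
theorem u33 : MulOk LU3 LU3 LU6 := by unfold MulOk; decide +kernel
theorem u63 : MulOk LU6 LU3 LI := by unfold MulOk; decide +kernel
theorem u62 : MulOk LU6 LU2 LU8 := by unfold MulOk; decide +kernel
theorem u81 : MulOk LU8 LU LI := by unfold MulOk; decide +kernel
theorem u18 : MulOk LU LU8 LI := by unfold MulOk; decide +kernel
theorem tx : MulOk LT LX (mulL LX LT) := by unfold MulOk; decide +kernel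
theorem xt : MulOk LX LT (mulL LX LT) := by unfold MulOk; decide +kernel
theorem tu : MulOk LT LU (mulL LU LT) := by unfold MulOk; decide +kernel
theorem ut : MulOk LU LT (mulL LU LT) := by unfold MulOk; decide +kernel

/-! ### isometries -/

theorem q_eq (x : V7) : quadFormOdd 3 K3 x = 2 * (x ⬝ᵥ (mk7 LP *ᵥ x)) := by
  have h : (4 : K3) = 1 := by decide
  simp only [quadFormOdd, dotProduct, Matrix.mulVec, Fintype.sum_sum_type, Fin.sum_univ_three, mk7, idx, LP,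
    Finset.univ_unique, Finset.sum_singleton, List.getD_cons_zero, List.getD_cons_succ, Fin.val_zero, Fin.val_one,
    Fin.val_two, Nat.reduceAdd]
  simp only [Nat.cast_zero, Nat.cast_one, Nat.cast_ofNat, zero_mul, add_zero, zero_add, one_mul, PUnit.default_eq_unit]
  linear_combination (-(x (Sum.inl ()) ^ 2 + x (Sum.inr (Sum.inl 0)) * x (Sum.inr (Sum.inr 0)) +
    x (Sum.inr (Sum.inl 1)) * x (Sum.inr (Sum.inr 1)) + x (Sum.inr (Sum.inl 2)) * x (Sum.inr (Sum.inr 2)))) * h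

/-- the list is an isometry -/
def IsoOk (a : List (List ℕ)) : Prop := MulOk LP a (mulL LP a) ∧
  ∀ p : I7 × I7, ((mk7 a)ᵀ * mk7 (mulL LP a)) p.1 p.2 = mk7 LP p.1 p.2

theorem IsoOk.mem {a : List (List ℕ)} (h : IsoOk a) {g : GL I7 K3} (hg : (g : Matrix I7 I7 K3) = mk7 a) :
    g ∈ isometryGroup K3 (⇑(quadOdd 3 K3)) := by
  rw [LieClassical.OrthFinite.mem_isometryGroup_iff]
  intro v
  rw [coe_quadOdd, q_eq, q_eq, hg]
  have h1 : (mk7 a)ᵀ * (mk7 LP * mk7 a) = mk7 LP := by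
    rw [h.1.eq]
    ext i j
    exact h.2 (i, j)
  have h2 : v ⬝ᵥ (mk7 LP *ᵥ v) = v ⬝ᵥ (((mk7 a)ᵀ * (mk7 LP * mk7 a)) *ᵥ v) := by rw [h1]
  rw [h2, ← Matrix.mulVec_mulVec, Matrix.dotProduct_mulVec v, Matrix.vecMul_transpose, Matrix.mulVec_mulVec]

theorem iG : IsoOk LG := by unfold IsoOk MulOk; decide +kernel
theorem iH : IsoOk LH := by unfold IsoOk MulOk; decide +kernel
theorem iX : IsoOk LX := by unfold IsoOk MulOk; decide +kernel
theorem iU : IsoOk LU := by unfold IsoOk MulOk; decide +kernel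

def gG : GL I7 K3 := unit7 LG LG gg gg
def gH : GL I7 K3 := unit7 LH LH hh hh
def gT : GL I7 K3 := unit7 LT LT tt tt
def gX : GL I7 K3 := unit7 LX LX6 x16 x61
def gU : GL I7 K3 := unit7 LU LU8 u18 u81

theorem gG_val : (gG : Matrix I7 I7 K3) = mk7 LG := rfl
theorem gH_val : (gH : Matrix I7 I7 K3) = mk7 LH := rfl
theorem gT_val : (gT : Matrix I7 I7 K3) = mk7 LT := rfl
theorem gX_val : (gX : Matrix I7 I7 K3) = mk7 LX := rfl
theorem gU_val : (gU : Matrix I7 I7 K3) = mk7 LU := rfl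

theorem gT_eq : gT = ⁅gG, gH⁆ := by
  have h1 : gG⁻¹ = gG := by
    rw [inv_eq_iff_mul_eq_one]
    apply Units.ext
    rw [Units.val_mul, gG_val, gg.eq, mk_one]; rfl
  have h2 : gH⁻¹ = gH := by
    rw [inv_eq_iff_mul_eq_one]
    apply Units.ext
    rw [Units.val_mul, gH_val, hh.eq, mk_one]; rfl
  rw [commutatorElement_def, h1, h2]
  apply Units.ext
  rw [Units.val_mul, Units.val_mul, Units.val_mul, gG_val, gH_val, gT_val, ← ff.eq, ← gh.eq]
  simp only [Matrix.mul_assoc]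

theorem gT_mem : gT ∈ omegaGL (⇑(quadOdd 3 K3)) := by
  have hG := iG.mem gG_val
  have hH := iH.mem gH_val
  refine ⟨⁅(⟨gG, hG⟩ : isometryGroup K3 (⇑(quadOdd 3 K3))), ⟨gH, hH⟩⁆, ?_, gT_eq.symm⟩
  exact Subgroup.commutator_mem_commutator (Subgroup.mem_top _) (Subgroup.mem_top _)

theorem gX_pow : gX ^ 7 = 1 := by
  apply Units.ext
  rw [Units.val_pow_eq_pow_val, gX_val, show 7 = 2 + 2 + 2 + 1 from rfl, pow_add, pow_add, pow_add, pow_one, pow_two,
    xx.eq, x22.eq, x42.eq, x61.eq, mk_one]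
  rfl

theorem gU_pow : gU ^ 9 = 1 := by
  apply Units.ext
  rw [Units.val_pow_eq_pow_val, gU_val, show 9 = 2 + 1 + (2 + 1) + (2 + 1) from rfl, pow_add, pow_add, pow_add, pow_one,
    pow_two, uu.eq, u21.eq, u33.eq, u63.eq, mk_one]
  rfl

theorem gU_cube : gU ^ 3 ≠ 1 := by
  intro h
  have h1 := congrArg Units.val h
  rw [Units.val_pow_eq_pow_val, gU_val, pow_succ, pow_two, uu.eq, u21.eq] at h1
  have h2 : ∃ p : I7 × I7, mk7 LU3 p.1 p.2 ≠ (1 : Matrix I7 I7 K3) p.1 p.2 := by decide +kernel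
  obtain ⟨p, hp⟩ := h2
  apply hp
  rw [h1]
  rfl

theorem gX_ne : gX ≠ 1 := by
  intro h
  have h1 := congrArg Units.val h
  rw [gX_val] at h1
  have h2 : ∃ p : I7 × I7, mk7 LX p.1 p.2 ≠ (1 : Matrix I7 I7 K3) p.1 p.2 := by decide +kernel
  obtain ⟨p, hp⟩ := h2
  apply hp
  rw [h1]
  rfl

theorem comm_tx : gT * gX = gX * gT := by
  apply Units.ext
  rw [Units.val_mul, Units.val_mul, gT_val, gX_val, tx.eq, xt.eq]

theorem comm_tu : gT * gU = gU * gT := by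
  apply Units.ext
  rw [Units.val_mul, Units.val_mul, gT_val, gU_val, tu.eq, ut.eq]

theorem gX_mem : gX ∈ omegaGL (⇑(quadOdd 3 K3)) :=
  H957.mem_omegaGL_of_odd (quadOdd 3 K3) (quadOdd_nondegenerate (by decide)) (Or.inr (by rw [H884.El.card_odd]; norm_num))
    (by decide) gX (iX.mem gX_val) gX_pow

theorem gU_mem : gU ∈ omegaGL (⇑(quadOdd 3 K3)) :=
  H957.mem_omegaGL_of_odd (quadOdd 3 K3) (quadOdd_nondegenerate (by decide)) (Or.inr (by rw [H884.El.card_odd]; norm_num))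
    (by decide) gU (iU.mem gU_val) gU_pow

/-! ### the vector `v` -/

def v0 : V7 := fun i => (([0, 1, 0, 0, 2, 0, 0] : List ℕ).getD (idx i) 0 : ℕ)
/-- the functional `polar · v0` -/
def c0 : V7 := fun i => (([0, 2, 0, 0, 1, 0, 0] : List ℕ).getD (idx i) 0 : ℕ)

theorem polar_v0 (x : V7) : polar (quadOdd 3 K3) x v0 = x (Sum.inr (Sum.inr 0)) - x (Sum.inr (Sum.inl 0)) := by
  have h3 : (3 : K3) = 0 := by decide
  rw [polar, coe_quadOdd]
  simp only [quadFormOdd, Fin.sum_univ_three, v0, idx, Pi.add_apply, List.getD_cons_zero, List.getD_cons_succ,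
    Fin.val_zero, Fin.val_one, Fin.val_two, Nat.reduceAdd, Nat.cast_zero, Nat.cast_one, Nat.cast_ofNat, add_zero]
  linear_combination (x (Sum.inr (Sum.inl 0))) * h3

theorem isT : IsT (quadOdd 3 K3) gT v0 := by
  constructor
  · rw [coe_quadOdd]
    decide +kernel
  · intro x
    rw [polar_v0, H781.Cov9.lin_apply, gT_val]
    have h3 : (3 : K3) = 0 := by decide
    have h2 : ∀ a : K3, 2 * a = -a := by decide
    funext i
    simp only [Matrix.mulVec, dotProduct, Fintype.sum_sum_type, Finset.univ_unique, Finset.sum_singleton,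
      Fin.sum_univ_three, mk7, LT, v0, Pi.sub_apply, Pi.neg_apply, Pi.smul_apply, smul_eq_mul]
    rcases i with i | i | i
    · simp [idx, h2]
    · fin_cases i <;> simp [idx, h2] <;> ring
    · fin_cases i <;> simp [idx, h2] <;> linear_combination (x (Sum.inr (Sum.inr 0)) - x (Sum.inr (Sum.inl 0))) * h3

/-! ### the element of order 15 -/

def LC : List (List ℕ) := [[2, 0, 0, 0, 0, 1, 1], [1, 0, 0, 2, 2, 0, 1], [0, 1, 2, 1, 0, 0, 0], [1, 2, 1, 1, 0, 1, 1],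
  [2, 2, 0, 1, 0, 2, 2], [0, 2, 2, 1, 2, 0, 2], [1, 2, 2, 0, 2, 2, 0]]
def LC2 := mulL LC LC
def LC3 := mulL LC2 LC
def LC4 := mulL LC2 LC2
def LC5 := mulL LC4 LC
def LC10 := mulL LC5 LC5
def LC14 := mulL LC10 LC4

theorem cc : MulOk LC LC LC2 := by unfold MulOk; decide +kernel
theorem c21 : MulOk LC2 LC LC3 := by unfold MulOk; decide +kernel
theorem c22 : MulOk LC2 LC2 LC4 := by unfold MulOk; decide +kernel
theorem c41 : MulOk LC4 LC LC5 := by unfold MulOk; decide +kernel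
theorem c55 : MulOk LC5 LC5 LC10 := by unfold MulOk; decide +kernel
theorem c105 : MulOk LC10 LC5 LI := by unfold MulOk; decide +kernel
theorem c141 : MulOk LC14 LC LI := by unfold MulOk; decide +kernel
theorem c114 : MulOk LC LC14 LI := by unfold MulOk; decide +kernel
theorem iC : IsoOk LC := by unfold IsoOk MulOk; decide +kernel

def gC : GL I7 K3 := unit7 LC LC14 c114 c141

theorem gC_val : (gC : Matrix I7 I7 K3) = mk7 LC := rfl

theorem gC_pow : gC ^ 15 = 1 := by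
  apply Units.ext
  rw [Units.val_pow_eq_pow_val, gC_val, show 15 = 2 + 2 + 1 + (2 + 2 + 1) + (2 + 2 + 1) from rfl, pow_add, pow_add,
    pow_add, pow_add, pow_one, pow_two, cc.eq, c22.eq, c41.eq, c55.eq, c105.eq, mk_one]
  rfl

theorem gC_cube : gC ^ 3 ≠ 1 := by
  intro h
  have h1 := congrArg Units.val h
  rw [Units.val_pow_eq_pow_val, gC_val, pow_succ, pow_two, cc.eq, c21.eq] at h1
  have h2 : ∃ p : I7 × I7, mk7 LC3 p.1 p.2 ≠ (1 : Matrix I7 I7 K3) p.1 p.2 := by decide +kernel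
  obtain ⟨p, hp⟩ := h2
  apply hp
  rw [h1]
  rfl

theorem gC_five : gC ^ 5 ≠ 1 := by
  intro h
  have h1 := congrArg Units.val h
  rw [Units.val_pow_eq_pow_val, gC_val, show 5 = 2 + 2 + 1 from rfl, pow_add, pow_add, pow_one, pow_two, cc.eq, c22.eq,
    c41.eq] at h1
  have h2 : ∃ p : I7 × I7, mk7 LC5 p.1 p.2 ≠ (1 : Matrix I7 I7 K3) p.1 p.2 := by decide +kernel
  obtain ⟨p, hp⟩ := h2
  apply hp
  rw [h1]
  rfl

theorem gC_mem : gC ∈ omegaGL (⇑(quadOdd 3 K3)) :=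
  H957.mem_omegaGL_of_odd (quadOdd 3 K3) (quadOdd_nondegenerate (by decide)) (Or.inr (by rw [H884.El.card_odd]; norm_num))
    (by decide) gC (iC.mem gC_val) gC_pow

theorem gT_ne : gT ≠ 1 := by
  intro h
  have h1 := congrArg Units.val h
  rw [gT_val] at h1
  have h2 : ∃ p : I7 × I7, mk7 LT p.1 p.2 ≠ (1 : Matrix I7 I7 K3) p.1 p.2 := by decide +kernel
  obtain ⟨p, hp⟩ := h2
  apply hp
  rw [h1]
  rfl

end Cfsg.Agent.H217.Cov7
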